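import Groth.Agent.GLRed.Stab
import Groth.Agent.HopfCartier.Basic

/-!
# Stable points of an affine action of a linearly reductive group
-/

set_option autoImplicit false
set_option linter.unusedSectionVars false
set_option linter.style.haveILetI false

universe u
open TensorProduct Groth.Agent.Comod WithConv
noncomputable section

namespace Groth.Agent.GLRed

variable {k : Type u} [Field k] [IsAlgClosed k] {A : Type u} [CommRing A] [HopfAlgebra k A] [Algebra.FiniteType k A]
variable {R : Type u} [CommRing R] [Algebra k R] [Algebra.FiniteType k R] [HopfRep.Comod k A R]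
  [GLin.IsCoactAlg k A R]

lemma hasFiniteStab_actPt {z : R →ₐ[k] k} (h : GLin.HasFiniteStab k A z) (g : A →ₐ[k] k) :
    GLin.HasFiniteStab k A (GLin.actPt k g z) :=
  (hasFiniteStab_iff _).2 (finite_stabSet_actPt ((hasFiniteStab_iff z).1 h) g)

lemma isStablePt_iff_points (x : R →ₐ[k] k) :
    GLin.IsStablePt k A x ↔
      (∀ z, GLin.InOrbitClosure k A x z → ∃ g : A →ₐ[k] k, z = GLin.actPt k g x) ∧ (stabSet k A x).Finite :=
  ⟨fun h => ⟨fun _ hz => exists_actPt_of_isClosedOrbit h.1 hz, (hasFiniteStab_iff x).1 h.2⟩,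
    fun h => ⟨isClosedOrbit_of_points h.1, (hasFiniteStab_iff x).2 h.2⟩⟩

/-- A point is stable exactly when every point of its fibre has finite stabiliser. -/
theorem isStablePt_iff_fibre (r : Integral k A) (x : R →ₐ[k] k) :
    GLin.IsStablePt k A x ↔
      ∀ z : R →ₐ[k] k, (∀ f ∈ GLin.invariants k A R, z f = x f) → GLin.HasFiniteStab k A z := by
  constructor
  · intro hx z hz
    obtain ⟨w, h1, h2⟩ := exists_common_closure r x z fun f hf => (hz f hf).symm
    obtain ⟨g, hg⟩ := exists_actPt_of_isClosedOrbit hx.1 h1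
    obtain ⟨h, hh⟩ := exists_actPt_of_finite_stab h2 (hg ▸ hasFiniteStab_actPt hx.2 g)
    obtain ⟨a, ha⟩ := exists_actPt_trans ⟨g, hg⟩ (exists_actPt_symm ⟨h, hh⟩)
    exact ha ▸ hasFiniteStab_actPt hx.2 a
  · intro h
    refine ⟨isClosedOrbit_of_points fun z hz => ?_, h x fun _ _ => rfl⟩
    exact exists_actPt_of_finite_stab hz (h z fun f hf => eq_of_inOrbitClosure hz hf)

/-- The stable points are cut out by invariants. -/
theorem exists_invariant_nonvanishing (hred : IsReduced A) (r : Integral k A) {x : R →ₐ[k] k}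
    (hx : GLin.IsStablePt k A x) :
    ∃ f ∈ GLin.invariants k A R, x f ≠ 0 ∧ ∀ y : R →ₐ[k] k, y f ≠ 0 → GLin.IsStablePt k A y := by
  classical
  let I : Ideal R := ⨅ z : {z : R →ₐ[k] k // ¬ GLin.HasFiniteStab k A z}, RingHom.ker z.1
  have hI : HopfRep.IsSubcomod (k := k) (A := A) (I.restrictScalars k) := by
    refine isSubcomod_iff.mpr fun φ f hf => ?_
    simp only [I, Submodule.restrictScalars_mem, Ideal.mem_iInf, RingHom.mem_ker] at hf ⊢
    rintro ⟨z, hz⟩
    have horb : GLin.orbitHom k A z f = 0 := by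
      refine GLinFree.eq_zero_of_points (k := k) fun g => ?_
      refine hf ⟨GLin.actPt k g z, fun hfin => hz ?_⟩
      obtain ⟨g', hg'⟩ := exists_actPt_symm (x := z) ⟨g, rfl⟩
      exact hg' ▸ hasFiniteStab_actPt hfin g'
    rw [dact_apply, ← GLin.coactAlgHom_apply, ← apply_orbitHom_cR, horb, map_zero]
  have htop : I ⊔ RingHom.ker (GLin.orbitHom k A x) = ⊤ := by
    by_contra htop
    obtain ⟨M, hM, hle⟩ := Ideal.exists_le_maximal _ htop
    obtain ⟨z, rfl⟩ := GLinFree.exists_point_of_maximal (k := k) M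
    obtain ⟨g, rfl⟩ := exists_actPt_of_isClosedOrbit hx.1 (le_sup_right.trans hle)
    obtain ⟨f, hf, hfB⟩ := exists_nbhd_finite_stab (hasFiniteStab_actPt hx.2 g)
    refine hf (RingHom.mem_ker.1 (le_sup_left.trans hle ?_))
    exact Ideal.mem_iInf.2 fun z => RingHom.mem_ker.2 (not_not.1 fun h => z.2 (hfB z.1 h))
  obtain ⟨f, hf, hfI, hfx⟩ := exists_invariant_separating r hI (isSubcomod_ker_orbitHom k A x) htop
  have hxf : x (1 - f) = 0 := by rw [← GLinFree.counit_orbit (A := A), RingHom.mem_ker.1 hfx, map_zero]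
  rw [map_sub, map_one, sub_eq_zero] at hxf
  refine ⟨f, hf, hxf ▸ one_ne_zero, fun y hy => (isStablePt_iff_fibre r y).2 fun z hz => ?_⟩
  by_contra hzf
  exact hy ((hz f hf).symm.trans (RingHom.mem_ker.1 (Ideal.mem_iInf.1 hfI ⟨z, hzf⟩)))

lemma act_apply (x : R →ₐ[k] k) (g : A →ₐ[k] k) (f : R) :
    x (HopfRep.Comod.act k A R g f) = g (GLin.orbitHom k A x f) := by
  show x ((TensorProduct.rid k R).toLinearMap (LinearMap.lTensor R g.toLinearMap (GLin.coactAlgHom k A R f))) =
    g ((Algebra.TensorProduct.lid k A).toAlgHom (Algebra.TensorProduct.map x (AlgHom.id k A) (GLin.coactAlgHom k A R f)))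
  generalize GLin.coactAlgHom k A R f = t
  induction t using TensorProduct.induction_on with
  | zero => simp
  | tmul a b => simp [mul_comm]
  | add a b ha hb => simp only [map_add, ha, hb]

lemma eq_actPt_iff (z y : R →ₐ[k] k) (g : A →ₐ[k] k) :
    (∀ f : R, z f = y (HopfRep.Comod.act k A R g f)) ↔ z = GLin.actPt k g y := by
  rw [AlgHom.ext_iff]
  exact forall_congr' fun f => by rw [act_apply]; rfl

lemma forall_vanish_iff_inOrbitClosure (x z : R →ₐ[k] k) :
    (∀ f : R, (∀ g : A →ₐ[k] k, x (HopfRep.Comod.act k A R g f) = 0) → z f = 0) ↔ GLin.InOrbitClosure k A x z := by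
  refine ⟨fun h f hf => RingHom.mem_ker.2 (h f fun g => by rw [act_apply, RingHom.mem_ker.1 hf, map_zero]),
    fun h f hf => ?_⟩
  simp only [act_apply] at hf
  haveI : IsJacobsonRing A := isJacobsonRing_of_finiteType (A := k)
  have hnil : IsNilpotent (GLin.orbitHom k A x f) := by
    rw [← mem_nilradical]
    show _ ∈ Ideal.radical (⊥ : Ideal A)
    rw [Ideal.radical_eq_jacobson, Ideal.jacobson, Submodule.mem_sInf]
    rintro M ⟨-, hM⟩
    haveI := hM
    obtain ⟨g, rfl⟩ := GLinFree.exists_point_of_maximal (k := k) M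
    exact hf g
  obtain ⟨m, hm⟩ := hnil
  exact IsReduced.eq_zero _ ⟨m, by rw [← map_pow]; exact h (by rw [RingHom.mem_ker, map_pow, hm])⟩

lemma setOf_act_eq (x : R →ₐ[k] k) :
    {g : A →ₐ[k] k | ∀ f : R, x (HopfRep.Comod.act k A R g f) = x f} = stabSet k A x := by
  ext g
  show (∀ f : R, x (HopfRep.Comod.act k A R g f) = x f) ↔ GLin.actPt k g x = x
  rw [AlgHom.ext_iff]
  exact forall_congr' fun f => by rw [act_apply]; rfl

lemma isStablePt_iff_act (x : R →ₐ[k] k) :
    GLin.IsStablePt k A x ↔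
      (∀ z : R →ₐ[k] k, (∀ f : R, (∀ g : A →ₐ[k] k, x (HopfRep.Comod.act k A R g f) = 0) → z f = 0) →
        ∃ g : A →ₐ[k] k, ∀ f : R, z f = x (HopfRep.Comod.act k A R g f)) ∧
      {g : A →ₐ[k] k | ∀ f : R, x (HopfRep.Comod.act k A R g f) = x f}.Finite := by
  simp only [isStablePt_iff_points, forall_vanish_iff_inOrbitClosure, eq_actPt_iff, setOf_act_eq]

end Groth.Agent.GLRed
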