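import Groth.Agent.GLRed.Separation
import Groth.Agent.GenFree.Image
import Mathlib.RingTheory.Ideal.MinimalPrime.Localization

/-!
# Orbits and orbit closures of rational points
-/

set_option autoImplicit false
set_option linter.unusedSectionVars false

universe u
open TensorProduct Groth.Agent.Comod WithConv
noncomputable section

namespace Groth.Agent.GLRed

variable {k : Type u} [Field k] {A : Type u} [CommRing A] [HopfAlgebra k A]
variable {R : Type u} [CommRing R] [Algebra k R] [HopfRep.Comod k A R] [GLin.IsCoactAlg k A R]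

lemma apply_orbitHom_cR (x : R →ₐ[k] k) (φ : A →ₗ[k] k) (f : R) :
    φ (GLin.orbitHom k A x f) = x (cR φ (GLin.coactAlgHom k A R f)) := by
  show φ ((Algebra.TensorProduct.lid k A).toAlgHom
    (Algebra.TensorProduct.map x (AlgHom.id k A) (GLin.coactAlgHom k A R f))) = _
  generalize GLin.coactAlgHom k A R f = t
  induction t using TensorProduct.induction_on with
  | zero => simp
  | tmul a b => simp [mul_comm]
  | add a b ha hb => simp only [map_add, ha, hb]

lemma ker_orbitHom_le {x z : R →ₐ[k] k} (h : GLin.InOrbitClosure k A x z) :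
    RingHom.ker (GLin.orbitHom k A x) ≤ RingHom.ker (GLin.orbitHom k A z) := by
  intro f hf
  rw [RingHom.mem_ker, ← Module.forall_dual_apply_eq_zero_iff k]
  intro φ
  rw [apply_orbitHom_cR, GLin.coactAlgHom_apply]
  exact RingHom.mem_ker.1 (h (isSubcomod_iff.mp (isSubcomod_ker_orbitHom k A x) (toConv φ) f hf))

lemma inOrbitClosure_self (x : R →ₐ[k] k) : GLin.InOrbitClosure k A x x := fun f hf => by
  rw [RingHom.mem_ker, ← GLinFree.counit_orbit (A := A), RingHom.mem_ker.1 hf, map_zero]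

lemma inOrbitClosure_trans {x y z : R →ₐ[k] k} (h : GLin.InOrbitClosure k A x y)
    (h' : GLin.InOrbitClosure k A y z) : GLin.InOrbitClosure k A x z :=
  (ker_orbitHom_le h).trans h'

lemma inOrbitClosure_actPt (g : A →ₐ[k] k) (x : R →ₐ[k] k) :
    GLin.InOrbitClosure k A x (GLin.actPt k g x) := fun f hf => by
  show g (GLin.orbitHom k A x f) = 0
  rw [RingHom.mem_ker.1 hf, map_zero]

lemma actPt_actPt (g h : WithConv (A →ₐ[k] k)) (x : R →ₐ[k] k) :
    GLin.actPt k h.ofConv (GLin.actPt k g.ofConv x) = GLin.actPt k (g * h).ofConv x :=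
  AlgHom.ext fun f => GLinFree.apply_orbitHom_actPt g h x f

lemma actPt_one (x : R →ₐ[k] k) : GLin.actPt k (1 : WithConv (A →ₐ[k] k)).ofConv x = x :=
  AlgHom.ext fun f => by
    show (1 : WithConv (A →ₐ[k] k)).ofConv (GLin.orbitHom k A x f) = x f
    rw [← GLinFree.counit_orbit (A := A) x f]
    rfl

lemma exists_actPt_symm {x z : R →ₐ[k] k} (h : ∃ g : A →ₐ[k] k, z = GLin.actPt k g x) :
    ∃ g : A →ₐ[k] k, x = GLin.actPt k g z := by
  obtain ⟨g, rfl⟩ := h
  refine ⟨(toConv g)⁻¹.ofConv, ?_⟩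
  rw [show g = (toConv g).ofConv from rfl, actPt_actPt, mul_inv_cancel, actPt_one]

lemma exists_actPt_trans {x y z : R →ₐ[k] k} (h : ∃ g : A →ₐ[k] k, y = GLin.actPt k g x)
    (h' : ∃ g : A →ₐ[k] k, z = GLin.actPt k g y) : ∃ g : A →ₐ[k] k, z = GLin.actPt k g x := by
  obtain ⟨g, rfl⟩ := h
  obtain ⟨g', rfl⟩ := h'
  exact ⟨(toConv g * toConv g').ofConv, by rw [← actPt_actPt]⟩

variable [IsAlgClosed k] [Algebra.FiniteType k A] [Algebra.FiniteType k R]

/-- Orbits with a common component of their closures coincide. -/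
theorem exists_actPt_of_common_minimalPrime {y z : R →ₐ[k] k} {P : Ideal R}
    (hy : P ∈ (RingHom.ker (GLin.orbitHom k A y)).minimalPrimes)
    (hz : P ∈ (RingHom.ker (GLin.orbitHom k A z)).minimalPrimes) :
    ∃ g : A →ₐ[k] k, z = GLin.actPt k g y := by
  have hP : P.IsPrime := hy.1.1
  have hft : ∀ w : R →ₐ[k] k, P ∈ (RingHom.ker (GLin.orbitHom k A w)).minimalPrimes →
      ∃ a : R, a ∉ P ∧ ∀ M : Ideal R, P ≤ M → M.IsPrime → a ∉ M →
        ∃ N : Ideal A, N.IsPrime ∧ N.comap (GLin.orbitHom k A w).toRingHom = M := by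
    intro w hw
    let φ : R →+* A ⧸ P.map (GLin.orbitHom k A w).toRingHom :=
      (Ideal.Quotient.mk _).comp (GLin.orbitHom k A w).toRingHom
    have hφ : φ.FiniteType := by
      refine RingHom.FiniteType.of_comp_finiteType (f := algebraMap k R) ?_
      have : (Ideal.Quotient.mk (P.map (GLin.orbitHom k A w).toRingHom)).comp ((GLin.orbitHom k A w).toRingHom.comp
          (algebraMap k R)) = (Ideal.Quotient.mk _).comp (algebraMap k A) := by
        rw [AlgHom.toRingHom_eq_coe, AlgHom.comp_algebraMap]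
      rw [RingHom.comp_assoc, this]
      exact (RingHom.FiniteType.of_surjective _ Ideal.Quotient.mk_surjective).comp
        (RingHom.finiteType_algebraMap.2 inferInstance)
    have hle : P ≤ RingHom.ker φ := fun f hf =>
      Ideal.Quotient.eq_zero_iff_mem.2 (Ideal.mem_map_of_mem _ hf)
    let ψ : R ⧸ P →+* A ⧸ P.map (GLin.orbitHom k A w).toRingHom := Ideal.Quotient.lift P φ hle
    obtain ⟨q, hq, -, hqP⟩ := Ideal.exists_comap_eq_of_mem_minimalPrimes (GLin.orbitHom k A w).toRingHom (I := ⊥) P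
      (by rwa [← RingHom.ker_eq_comap_bot])
    have hq' : (q.map (Ideal.Quotient.mk (P.map (GLin.orbitHom k A w).toRingHom))).IsPrime := by
      refine Ideal.map_isPrime_of_surjective Ideal.Quotient.mk_surjective ?_
      rw [Ideal.mk_ker]
      exact Ideal.map_le_iff_le_comap.2 hqP.ge
    have hψq : ∀ f : R, f ∉ P → ψ (Ideal.Quotient.mk P f) ∉
        q.map (Ideal.Quotient.mk (P.map (GLin.orbitHom k A w).toRingHom)) := by
      intro f hf hmem
      rw [show ψ (Ideal.Quotient.mk P f) = Ideal.Quotient.mk (P.map (GLin.orbitHom k A w).toRingHom) ((GLin.orbitHom k A w).toRingHom f) from rfl,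
        Ideal.mem_map_iff_of_surjective _ Ideal.Quotient.mk_surjective] at hmem
      obtain ⟨b, hb, hbe⟩ := hmem
      rw [Ideal.Quotient.mk_eq_mk_iff_sub_mem] at hbe
      refine hf (hqP.le (Ideal.mem_comap.2 ?_))
      simpa using sub_mem hb (Ideal.map_le_iff_le_comap.2 hqP.ge hbe)
    obtain ⟨a, ha, hsub⟩ := GenFree.exists_basicOpen_subset_range_comap ψ
      (RingHom.FiniteType.of_comp_finiteType (f := Ideal.Quotient.mk P) hφ) ⟨_, hq'⟩ (fun Q f hf => by
        obtain ⟨f, rfl⟩ := Ideal.Quotient.mk_surjective f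
        rw [Ideal.Quotient.eq_zero_iff_mem.2 (not_not.1 fun hfP => hψq f hfP hf)]
        exact zero_mem _)
    obtain ⟨a, rfl⟩ := Ideal.Quotient.mk_surjective a
    refine ⟨a, fun haP => ha (by rw [Ideal.Quotient.eq_zero_iff_mem.2 haP]; exact zero_mem _), fun M hPM hM haM => ?_⟩
    have hM' : (M.map (Ideal.Quotient.mk P)).IsPrime :=
      Ideal.map_isPrime_of_surjective Ideal.Quotient.mk_surjective (by rwa [Ideal.mk_ker])
    have hc : (M.map (Ideal.Quotient.mk P)).comap (Ideal.Quotient.mk P) = M := by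
      rw [Ideal.comap_map_of_surjective' _ Ideal.Quotient.mk_surjective, Ideal.mk_ker]
      exact sup_eq_left.2 hPM
    obtain ⟨N, hN⟩ := hsub (show (⟨_, hM'⟩ : PrimeSpectrum (R ⧸ P)) ∈ PrimeSpectrum.basicOpen (Ideal.Quotient.mk P a)
      from fun hmem => haM (hc.le hmem))
    refine ⟨N.asIdeal.comap (Ideal.Quotient.mk _), inferInstance, ?_⟩
    have e := congrArg (fun p : PrimeSpectrum (R ⧸ P) => p.asIdeal.comap (Ideal.Quotient.mk P)) hN
    simp only [hc] at e
    exact e
  obtain ⟨a, ha, hy'⟩ := hft y hy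
  obtain ⟨b, hb, hz'⟩ := hft z hz
  haveI : IsJacobsonRing R := isJacobsonRing_of_finiteType (A := k)
  have hab : a * b ∉ P.jacobson := by
    rw [← Ideal.radical_eq_jacobson, hP.isRadical.radical]
    exact hP.mul_notMem ha hb
  obtain ⟨M, ⟨hPM, hM⟩, habM⟩ : ∃ M : Ideal R, (P ≤ M ∧ M.IsMaximal) ∧ a * b ∉ M := by
    by_contra! hcon
    exact hab (Submodule.mem_sInf.2 fun M hM => hcon M hM)
  obtain ⟨N₁, hN₁, e₁⟩ := hy' M hPM hM.isPrime fun h => habM (M.mul_mem_right b h)
  obtain ⟨N₂, hN₂, e₂⟩ := hz' M hPM hM.isPrime fun h => habM (M.mul_mem_left a h)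
  obtain ⟨n₁, hn₁, hle₁⟩ := Ideal.exists_le_maximal N₁ hN₁.ne_top
  obtain ⟨n₂, hn₂, hle₂⟩ := Ideal.exists_le_maximal N₂ hN₂.ne_top
  obtain ⟨g, hg⟩ := GLinFree.exists_point_of_maximal (k := k) n₁
  obtain ⟨h, hh⟩ := GLinFree.exists_point_of_maximal (k := k) n₂
  have key : ∀ (w : R →ₐ[k] k) (g : A →ₐ[k] k) (N n : Ideal A), RingHom.ker g = n → N ≤ n →
      N.comap (GLin.orbitHom k A w).toRingHom = M → RingHom.ker (GLin.actPt k g w) = M := by
    intro w g N n hg hle e
    refine (hM.eq_of_le (RingHom.ker_isMaximal_of_surjective _ fun c =>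
      ⟨algebraMap k R c, AlgHom.commutes _ c⟩).ne_top ?_).symm
    intro f hf
    rw [← e] at hf
    have h2 : (GLin.orbitHom k A w).toRingHom f ∈ RingHom.ker g := hg.ge (hle hf)
    exact RingHom.mem_ker.2 (RingHom.mem_ker.1 h2)
  have hpt : GLin.actPt k g y = GLin.actPt k h z :=
    GLinFree.point_ext (le_of_eq ((key y g N₁ n₁ hg hle₁ e₁).trans (key z h N₂ n₂ hh hle₂ e₂).symm))
  exact exists_actPt_trans ⟨g, rfl⟩ (exists_actPt_symm ⟨h, hpt⟩)

/-- Points with the same orbit closure lie in the same orbit. -/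
theorem exists_actPt_of_ker_eq {y z : R →ₐ[k] k}
    (h : RingHom.ker (GLin.orbitHom k A y) = RingHom.ker (GLin.orbitHom k A z)) :
    ∃ g : A →ₐ[k] k, z = GLin.actPt k g y := by
  haveI := RingHom.ker_isPrime y.toRingHom
  obtain ⟨P, hP, -⟩ := Ideal.exists_minimalPrimes_le (J := RingHom.ker y.toRingHom) (inOrbitClosure_self (A := A) y)
  exact exists_actPt_of_common_minimalPrime hP (h ▸ hP)

/-- In every orbit closure there is a point whose orbit is closed. -/
theorem exists_closed_orbit_le (x : R →ₐ[k] k) :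
    ∃ y : R →ₐ[k] k, GLin.InOrbitClosure k A x y ∧
      ∀ z : R →ₐ[k] k, GLin.InOrbitClosure k A y z → ∃ g : A →ₐ[k] k, z = GLin.actPt k g y := by
  haveI : IsNoetherianRing R := Algebra.FiniteType.isNoetherianRing k R
  obtain ⟨_, ⟨y, hy, rfl⟩, hmax⟩ := WellFounded.has_min (inferInstance : WellFoundedGT (Ideal R)).wf
    ((fun z : R →ₐ[k] k => RingHom.ker (GLin.orbitHom k A z)) '' {z | GLin.InOrbitClosure k A x z})
    ⟨_, x, inOrbitClosure_self x, rfl⟩
  refine ⟨y, hy, fun z hz => exists_actPt_of_ker_eq ?_⟩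
  exact (eq_of_le_of_not_lt (ker_orbitHom_le hz)
    (hmax _ ⟨z, inOrbitClosure_trans hy hz, rfl⟩))

/-- A closed orbit contains all points of its closure. -/
theorem exists_actPt_of_isClosedOrbit {x z : R →ₐ[k] k} (hx : GLin.IsClosedOrbit k A x)
    (h : GLin.InOrbitClosure k A x z) : ∃ g : A →ₐ[k] k, z = GLin.actPt k g x := by
  have hmem : (⟨RingHom.ker z, RingHom.ker_isPrime _⟩ : PrimeSpectrum R) ∈
      PrimeSpectrum.zeroLocus (RingHom.ker (GLin.orbitHom k A x).toRingHom) := h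
  rw [← PrimeSpectrum.closure_range_comap, hx.closure_eq] at hmem
  obtain ⟨q, hq⟩ := hmem
  obtain ⟨n, hn, hqn⟩ := Ideal.exists_le_maximal q.asIdeal q.2.ne_top
  obtain ⟨g, hg⟩ := GLinFree.exists_point_of_maximal (k := k) n
  refine ⟨g, GLinFree.point_ext fun f hf => ?_⟩
  have : GLin.orbitHom k A x f ∈ q.asIdeal := (congrArg PrimeSpectrum.asIdeal hq).symm.le hf
  exact RingHom.mem_ker.2 (RingHom.mem_ker.1 (hg ▸ hqn this : GLin.orbitHom k A x f ∈ RingHom.ker g))

end Groth.Agent.GLRed
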