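import Groth.Agent.Comod.Reynolds
import Groth.Agent.GLinFree.ClosedFinite
import Groth.Agent.GLinFree.Quot

/-!
# Invariants of a linearly reductive group separate closed invariant sets
-/

set_option autoImplicit false
set_option linter.unusedSectionVars false

universe u
open TensorProduct Groth.Agent.Comod
noncomputable section

namespace Groth.Agent.GLRed

variable {k : Type u} [Field k] {A : Type u} [CommRing A] [HopfAlgebra k A]

lemma reynolds_mem_subcomod {V : Type u} [AddCommGroup V] [Module k V] [HopfRep.Comod k A V] (r : Integral k A)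
    {W : Submodule k V} (hW : HopfRep.IsSubcomod (k := k) (A := A) W) {v : V} (hv : v ∈ W) :
    reynolds V r v ∈ W :=
  isSubcomod_iff.mp hW _ v hv

variable {R : Type u} [CommRing R] [Algebra k R] [HopfRep.Comod k A R] [GLin.IsCoactAlg k A R]

lemma reynolds_invariant_mul (r : Integral k A) {f : R} (hf : f ∈ GLin.invariants k A R) (x : R) :
    reynolds R r (f * x) = f * reynolds R r x :=
  reynolds_mul r f x GLin.IsCoactAlg.coact_mul ((GLin.mem_invariants_iff k A R f).1 hf)

lemma reynolds_mem_invariants (r : Integral k A) (v : R) : reynolds R r v ∈ GLin.invariants k A R :=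
  (GLin.mem_invariants_iff k A R _).2 (reynolds_mem r v)

lemma reynolds_one (r : Integral k A) : reynolds R r (1 : R) = 1 :=
  reynolds_of_mem r (GLin.IsCoactAlg.coact_one (k := k) (A := A) (R := R))

/-- An invariant function separating two disjoint closed invariant sets. -/
theorem exists_invariant_separating (r : Integral k A) {I J : Ideal R}
    (hI : HopfRep.IsSubcomod (k := k) (A := A) (I.restrictScalars k))
    (hJ : HopfRep.IsSubcomod (k := k) (A := A) (J.restrictScalars k)) (h : I ⊔ J = ⊤) :
    ∃ f ∈ GLin.invariants k A R, f ∈ I ∧ 1 - f ∈ J := by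
  obtain ⟨a, ha, b, hb, hab⟩ := Submodule.mem_sup.1 (show (1 : R) ∈ I ⊔ J by rw [h]; trivial)
  refine ⟨reynolds R r a, reynolds_mem_invariants r a, reynolds_mem_subcomod r hI ha, ?_⟩
  have hsum : reynolds R r a + reynolds R r b = 1 := by rw [← map_add, hab, reynolds_one]
  rw [show (1 : R) - reynolds R r a = reynolds R r b by rw [← hsum]; ring]
  exact reynolds_mem_subcomod r hJ hb

/-- A point of the invariants which kills an invariant ideal lifts to a point of the zero set of the ideal. -/
theorem exists_point_of_invariant_point [IsAlgClosed k] [Algebra.FiniteType k R] (r : Integral k A) {I : Ideal R}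
    (hI : HopfRep.IsSubcomod (k := k) (A := A) (I.restrictScalars k))
    (φ : GLin.invariants k A R →ₐ[k] k) (hφ : ∀ f : GLin.invariants k A R, (f : R) ∈ I → φ f = 0) :
    ∃ x : R →ₐ[k] k, (∀ f ∈ I, x f = 0) ∧ ∀ f : GLin.invariants k A R, x (f : R) = φ f := by
  classical
  let N : Ideal R := Ideal.span ((fun f : GLin.invariants k A R => (f : R)) '' {f | φ f = 0})
  have hne : I ⊔ N ≠ ⊤ := by
    intro htop
    obtain ⟨a, ha, b, hb, hab⟩ := Submodule.mem_sup.1 (show (1 : R) ∈ I ⊔ N by rw [htop]; trivial)
    have key : ∀ y ∈ N, ∀ z : R, φ ⟨reynolds R r (y * z), reynolds_mem_invariants r _⟩ = 0 := by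
      intro y hy
      induction hy using Submodule.span_induction with
      | mem y hy =>
        obtain ⟨f, hf, rfl⟩ := hy
        intro z
        have e : (⟨reynolds R r ((f : R) * z), reynolds_mem_invariants r _⟩ : GLin.invariants k A R) =
            f * ⟨reynolds R r z, reynolds_mem_invariants r _⟩ := Subtype.ext (reynolds_invariant_mul r f.2 z)
        rw [e, map_mul, show φ f = 0 from hf, zero_mul]
      | zero =>
        intro z
        rw [show (⟨reynolds R r (0 * z), reynolds_mem_invariants r _⟩ : GLin.invariants k A R) = 0 from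
          Subtype.ext (by simp), map_zero]
      | add y y' _ _ hy hy' =>
        intro z
        rw [show (⟨reynolds R r ((y + y') * z), reynolds_mem_invariants r _⟩ : GLin.invariants k A R) =
          ⟨reynolds R r (y * z), reynolds_mem_invariants r _⟩ + ⟨reynolds R r (y' * z), reynolds_mem_invariants r _⟩
          from Subtype.ext (by simp [add_mul]), map_add, hy, hy', add_zero]
      | smul c y _ hy =>
        intro z
        rw [show (⟨reynolds R r ((c • y) * z), reynolds_mem_invariants r _⟩ : GLin.invariants k A R) =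
          ⟨reynolds R r (y * (c * z)), reynolds_mem_invariants r _⟩ from Subtype.ext (by
            simp [mul_comm, mul_left_comm]), hy]
    have h1 := key b hb 1
    have h2 : φ ⟨reynolds R r a, reynolds_mem_invariants r _⟩ = 0 := hφ _ (reynolds_mem_subcomod r hI ha)
    have e : (⟨reynolds R r a, reynolds_mem_invariants r _⟩ : GLin.invariants k A R) +
        ⟨reynolds R r (b * 1), reynolds_mem_invariants r _⟩ = 1 :=
      Subtype.ext (by
        show reynolds R r a + reynolds R r (b * 1) = 1
        rw [mul_one, ← map_add, hab, reynolds_one])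
    have := congrArg φ e
    rw [map_add, h1, h2, add_zero, map_one] at this
    exact zero_ne_one this
  obtain ⟨M, hM, hle⟩ := Ideal.exists_le_maximal _ hne
  obtain ⟨x, hx⟩ := GLinFree.exists_point_of_maximal (k := k) M
  refine ⟨x, fun f hf => RingHom.mem_ker.1 (hx ▸ hle (Ideal.mem_sup_left hf)), fun f => ?_⟩
  have hmem : ((f - algebraMap k (GLin.invariants k A R) (φ f) : GLin.invariants k A R) : R) ∈ N :=
    Ideal.subset_span ⟨_, show φ _ = 0 by simp, rfl⟩
  have := RingHom.mem_ker.1 (hx ▸ hle (Ideal.mem_sup_right hmem) : _ ∈ RingHom.ker x)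
  simpa [sub_eq_zero] using this

variable (k A) in
lemma isSubcomod_ker_orbitHom (x : R →ₐ[k] k) :
    HopfRep.IsSubcomod (k := k) (A := A) ((RingHom.ker (GLin.orbitHom k A x)).restrictScalars k) := by
  refine isSubcomod_iff.mpr fun f y hy => ?_
  show GLin.orbitHom k A x (dact k A R f y) = 0
  have h : GLin.orbitHom k A x y = 0 := hy
  rw [dact_apply]
  show (GLin.orbitHom k A x).toLinearMap (cR f.ofConv (GLin.coactAlgHom k A R y)) = 0
  rw [← cR_rTensor, ← OrbitCot.comul_orbitHom, h, map_zero, map_zero]

/-- Two points not separated by invariants have a common point in their orbit closures. -/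
theorem exists_common_closure [IsAlgClosed k] [Algebra.FiniteType k R] (r : Integral k A) (x y : R →ₐ[k] k)
    (h : ∀ f ∈ GLin.invariants k A R, x f = y f) :
    ∃ z : R →ₐ[k] k, GLin.InOrbitClosure k A x z ∧ GLin.InOrbitClosure k A y z := by
  by_cases htop : RingHom.ker (GLin.orbitHom k A x) ⊔ RingHom.ker (GLin.orbitHom k A y) = ⊤
  · obtain ⟨f, hf, hfx, hfy⟩ :=
      exists_invariant_separating r (isSubcomod_ker_orbitHom k A x) (isSubcomod_ker_orbitHom k A y) htop
    have h1 : x f = 0 := by rw [← GLinFree.counit_orbit (A := A), RingHom.mem_ker.1 hfx, map_zero]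
    have h2 : y (1 - f) = 0 := by rw [← GLinFree.counit_orbit (A := A), RingHom.mem_ker.1 hfy, map_zero]
    rw [map_sub, map_one, ← h f hf, h1, sub_zero] at h2
    exact absurd h2 one_ne_zero
  · obtain ⟨M, hM, hle⟩ := Ideal.exists_le_maximal _ htop
    obtain ⟨z, hz⟩ := GLinFree.exists_point_of_maximal (k := k) M
    exact ⟨z, (le_sup_left.trans hle).trans hz.ge, (le_sup_right.trans hle).trans hz.ge⟩

lemma eq_of_inOrbitClosure {x z : R →ₐ[k] k} (h : GLin.InOrbitClosure k A x z) {f : R}
    (hf : f ∈ GLin.invariants k A R) : z f = x f := by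
  have : f - algebraMap k R (x f) ∈ RingHom.ker (GLin.orbitHom k A x) := by
    rw [RingHom.mem_ker, map_sub, AlgHom.commutes, GLinFree.orbitHom_invariant x hf, sub_self]
  have := RingHom.mem_ker.1 (h this)
  rwa [map_sub, AlgHom.commutes, sub_eq_zero] at this

end Groth.Agent.GLRed
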