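import Groth.Agent.GLRed.Orbits
import Groth.Agent.GLinFree.Dim
import Groth.Agent.DimFormula.Field
import Groth.Agent.Hensel.SpreadNbhd
import Mathlib.RingTheory.KrullDimension.NonZeroDivisors
import Mathlib.RingTheory.Spectrum.Prime.ConstructibleSet

/-!
# Finite stabilisers, boundaries of orbits and stable points
-/

set_option autoImplicit false
set_option linter.unusedSectionVars false
set_option linter.style.haveILetI false

universe u
open TensorProduct Groth.Agent.Comod WithConv
noncomputable section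

namespace Groth.Agent.GLRed

variable {k : Type u} [Field k] {A : Type u} [CommRing A] [HopfAlgebra k A]
variable {R : Type u} [CommRing R] [Algebra k R] [HopfRep.Comod k A R] [GLin.IsCoactAlg k A R]

lemma ker_le_counit_stab (z : R →ₐ[k] k) :
    GLin.stabIdeal k A z ≤ RingHom.ker (Bialgebra.counitAlgHom k A) := by
  refine Ideal.map_le_iff_le_comap.2 fun f hf => ?_
  show Bialgebra.counitAlgHom k A (GLin.orbitHom k A z f) = 0
  rw [Bialgebra.counitAlgHom_apply, GLinFree.counit_orbit]
  exact hf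

lemma stabIdeal_le_ker_iff {z : R →ₐ[k] k} {g : A →ₐ[k] k} :
    GLin.stabIdeal k A z ≤ RingHom.ker g ↔ GLin.actPt k g z = z := by
  constructor
  · intro h
    have hle : RingHom.ker z ≤ RingHom.ker (GLin.actPt k g z) := by
      intro f hf
      have h1 : GLin.orbitHom k A z f ∈ RingHom.ker g := h (Ideal.mem_map_of_mem _ hf)
      rw [RingHom.mem_ker] at h1 ⊢
      exact h1
    exact (GLinFree.point_ext hle).symm
  · intro h
    unfold GLin.stabIdeal
    rw [Ideal.map_le_iff_le_comap]
    intro f hf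
    rw [Ideal.mem_comap, RingHom.mem_ker]
    rw [RingHom.mem_ker] at hf
    exact (DFunLike.congr_fun h f).trans hf

/-- The stabiliser, as a set of rational points. -/
def stabSet (k : Type u) [Field k] (A : Type u) [CommRing A] [HopfAlgebra k A] {R : Type u} [CommRing R]
    [Algebra k R] [HopfRep.Comod k A R] [GLin.IsCoactAlg k A R] (z : R →ₐ[k] k) : Set (A →ₐ[k] k) :=
  {g | GLin.actPt k g z = z}

/-- Left translation by a rational point. -/
def tauL (g : WithConv (A →ₐ[k] k)) : A →ₐ[k] A :=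
  (HopfRedSq.cst g * toConv (AlgHom.id k A)).ofConv

lemma tauL_comp (g h : WithConv (A →ₐ[k] k)) : (tauL g).comp (tauL h) = tauL (h * g) := by
  unfold tauL
  rw [AlgHom.comp_convMul_distrib, HopfRedSq.cst_mul, mul_assoc]
  congr 2
  exact WithConv.ext (AlgHom.ext fun a => (tauL g).commutes _)

lemma tauL_one : tauL (1 : WithConv (A →ₐ[k] k)) = AlgHom.id k A := by
  rw [tauL, HopfRedSq.cst_one, one_mul, ofConv_toConv]

/-- Left translation as an automorphism. -/
def tauLEquiv (g : WithConv (A →ₐ[k] k)) : A ≃ₐ[k] A :=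
  AlgEquiv.ofAlgHom (tauL g) (tauL g⁻¹) (by rw [tauL_comp, inv_mul_cancel, tauL_one])
    (by rw [tauL_comp, mul_inv_cancel, tauL_one])

lemma comp_tauL (h g : WithConv (A →ₐ[k] k)) : toConv (h.ofConv.comp (tauL g)) = g * h := by
  refine WithConv.ext ?_
  unfold tauL
  rw [ofConv_toConv, AlgHom.comp_convMul_distrib]
  congr 2
  exact WithConv.ext (AlgHom.ext fun a => h.ofConv.commutes _)

lemma tauL_orbitHom (g : A →ₐ[k] k) (z : R →ₐ[k] k) (f : R) :
    tauL (toConv g) (GLin.orbitHom k A z f) = GLin.orbitHom k A (GLin.actPt k g z) f := by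
  show (HopfRedSq.cst (toConv g) * toConv (AlgHom.id k A)).ofConv (GLin.orbitHom k A z f) = _
  rw [AlgHom.convMul_apply, OrbitCot.comul_orbitHom]
  show _ = (Algebra.TensorProduct.lid k A).toAlgHom
    (Algebra.TensorProduct.map (g.comp (GLin.orbitHom k A z)) (AlgHom.id k A) (GLin.coactAlgHom k A R f))
  generalize GLin.coactAlgHom k A R f = t
  induction t using TensorProduct.induction_on with
  | zero => simp
  | tmul a b => simp [HopfRedSq.cst, Algebra.smul_def]
  | add a b ha hb => simp only [map_add, ha, hb]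

lemma counit_tauL (g : A →ₐ[k] k) (a : A) :
    Bialgebra.counitAlgHom k A (tauL (toConv g) a) = g a := by
  have h := congrArg (fun w => (WithConv.ofConv w) a) (comp_tauL (1 : WithConv (A →ₐ[k] k)) (toConv g))
  rw [mul_one] at h
  exact h

variable [IsAlgClosed k] [Algebra.FiniteType k A]

lemma moduleFinite_quotient (I : Ideal A) (h : {g : A →ₐ[k] k | I ≤ RingHom.ker g}.Finite) :
    Module.Finite k (A ⧸ I) := by
  haveI : IsJacobsonRing (A ⧸ I) := isJacobsonRing_of_finiteType (A := k)
  haveI : IsNoetherianRing (A ⧸ I) := Algebra.FiniteType.isNoetherianRing k _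
  haveI : Finite (MaximalSpectrum (A ⧸ I)) := by
    haveI := h.to_subtype
    refine Finite.of_surjective (fun g : {g : A →ₐ[k] k | I ≤ RingHom.ker g} =>
      (⟨RingHom.ker (Ideal.Quotient.liftₐ I g.1 g.2), RingHom.ker_isMaximal_of_surjective _
        fun c => ⟨algebraMap k _ c, AlgHom.commutes _ c⟩⟩ : MaximalSpectrum (A ⧸ I))) fun M => ?_
    obtain ⟨g, hg⟩ := GLinFree.exists_point_of_maximal (k := k) M.asIdeal
    refine ⟨⟨g.comp (Ideal.Quotient.mkₐ k I), fun a ha => ?_⟩, MaximalSpectrum.ext ?_⟩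
    · rw [RingHom.mem_ker, AlgHom.comp_apply, Ideal.Quotient.mkₐ_eq_mk, Ideal.Quotient.eq_zero_iff_mem.2 ha, map_zero]
    · refine Eq.trans ?_ hg
      exact congrArg RingHom.ker (Ideal.Quotient.algHom_ext k (AlgHom.ext fun a => rfl))
  haveI : IsArtinianRing (A ⧸ I) := by
    refine isArtinianRing_iff_krullDimLE_zero.2 (Ring.krullDimLE_zero_iff.2 fun P hP => ?_)
    have hfin : {M : Ideal (A ⧸ I) | P ≤ M ∧ M.IsMaximal}.Finite := by
      refine (Set.finite_range (MaximalSpectrum.asIdeal (R := A ⧸ I))).subset ?_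
      rintro M ⟨-, hM⟩
      exact ⟨⟨M, hM⟩, rfl⟩
    have hj : hfin.toFinset.inf id ≤ P := by
      refine le_of_le_of_eq ?_ ((Ideal.radical_eq_jacobson P).symm.trans hP.isRadical.radical)
      exact le_sInf fun M hM => Finset.inf_le (f := id) (hfin.mem_toFinset.2 hM)
    obtain ⟨M, hM, hle⟩ := (Ideal.IsPrime.inf_le' hP).1 hj
    obtain ⟨hPM, hmax⟩ := hfin.mem_toFinset.1 hM
    exact le_antisymm hPM hle ▸ hmax
  exact (Module.finite_iff_isArtinianRing k (A ⧸ I)).2 inferInstance

theorem hasFiniteStab_iff (z : R →ₐ[k] k) : GLin.HasFiniteStab k A z ↔ (stabSet k A z).Finite := by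
  constructor
  · intro h
    haveI : Module.Finite k (A ⧸ GLin.stabIdeal k A z) := h
    have : Finite ((A ⧸ GLin.stabIdeal k A z) →ₐ[k] k) := inferInstance
    refine Set.Finite.subset (Set.finite_range fun ψ : (A ⧸ GLin.stabIdeal k A z) →ₐ[k] k =>
      ψ.comp (Ideal.Quotient.mkₐ k _)) fun g hg => ?_
    exact ⟨Ideal.Quotient.liftₐ _ g (stabIdeal_le_ker_iff.2 hg), AlgHom.ext fun a => rfl⟩
  · intro h
    exact moduleFinite_quotient _ (h.subset fun g hg => stabIdeal_le_ker_iff.1 hg)

lemma finite_stabSet_actPt {z : R →ₐ[k] k} (h : (stabSet k A z).Finite) (g : A →ₐ[k] k) :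
    (stabSet k A (GLin.actPt k g z)).Finite := by
  let a := toConv g
  refine (h.image fun s => (a⁻¹ * toConv s * a).ofConv).subset fun s hs => ?_
  refine ⟨(a * toConv s * a⁻¹).ofConv, ?_, ?_⟩
  · show GLin.actPt k (a * toConv s * a⁻¹).ofConv z = z
    rw [← actPt_actPt, ← actPt_actPt]
    show GLin.actPt k a⁻¹.ofConv (GLin.actPt k s (GLin.actPt k g z)) = z
    rw [hs, show GLin.actPt k g z = GLin.actPt k a.ofConv z from rfl, actPt_actPt, mul_inv_cancel, actPt_one]
  · show (a⁻¹ * (a * toConv s * a⁻¹) * a).ofConv = s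
    rw [show a⁻¹ * (a * toConv s * a⁻¹) * a = toConv s by group]

variable [Algebra.FiniteType k R]

/-- An orbit with finite stabilisers does not lie in the boundary of another orbit. -/
theorem exists_actPt_of_finite_stab {y w : R →ₐ[k] k} (h : GLin.InOrbitClosure k A y w)
    (hw : GLin.HasFiniteStab k A w) : ∃ g : A →ₐ[k] k, w = GLin.actPt k g y := by
  classical
  haveI : Nontrivial A := Bialgebra.nontrivial k
  haveI : IsNoetherianRing A := Algebra.FiniteType.isNoetherianRing k A
  haveI : IsNoetherianRing R := Algebra.FiniteType.isNoetherianRing k R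
  set m : Ideal A := RingHom.ker (Bialgebra.counitAlgHom k A)
  haveI hm : m.IsMaximal := RingHom.ker_isMaximal_of_surjective _ fun x => ⟨algebraMap k A x, by simp⟩
  let φ := GLin.orbitHom k A w
  let R' := R ⧸ RingHom.ker φ
  letI : Algebra R' A := (RingHom.kerLift φ.toRingHom).toAlgebra
  haveI hm' := hm.isPrime
  let p : Ideal R' := m.comap (algebraMap R' A)
  haveI : p.IsPrime := Ideal.comap_isPrime _ _
  haveI : m.LiesOver p := ⟨rfl⟩
  have hp : p.comap (Ideal.Quotient.mk (RingHom.ker φ)) = RingHom.ker w := by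
    ext f
    show Bialgebra.counitAlgHom k A (φ f) = 0 ↔ w f = 0
    rw [Bialgebra.counitAlgHom_apply, GLinFree.counit_orbit]
  have hpA : p.map (algebraMap R' A) = GLin.stabIdeal k A w := by
    rw [← Ideal.map_comap_of_surjective _ Ideal.Quotient.mk_surjective p, hp, Ideal.map_map]
    rfl
  haveI : IsArtinianRing (A ⧸ p.map (algebraMap R' A)) := by
    rw [hpA]
    haveI : Module.Finite k (A ⧸ GLin.stabIdeal k A w) := hw
    exact IsArtinianRing.of_finite k _
  haveI : (m.map (Ideal.Quotient.mk (p.map (algebraMap R' A)))).IsPrime :=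
    Ideal.map_isPrime_of_surjective Ideal.Quotient.mk_surjective
      (by rw [Ideal.mk_ker]; exact Ideal.map_comap_le)
  have hh : m.height ≤ p.height := by
    refine (Ideal.height_le_height_add_of_liesOver p m).trans ?_
    refine le_of_eq_of_le (congrArg (p.height + ·) (Ideal.height_eq_zero_iff.2 ?_)) (le_of_eq (add_zero _))
    exact IsArtinianRing.mem_minimalPrimes bot_le
  obtain ⟨l, hl, hlen⟩ := p.exists_ltSeries_length_eq_height
  let e : PrimeSpectrum R' → PrimeSpectrum R := PrimeSpectrum.comap (Ideal.Quotient.mk (RingHom.ker φ))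
  have he : StrictMono e := by
    refine Monotone.strictMono_of_injective (fun a b hab => Ideal.comap_mono hab) ?_
    exact PrimeSpectrum.comap_injective_of_surjective _ Ideal.Quotient.mk_surjective
  have hQ0 : RingHom.ker φ ≤ (e l.head).asIdeal := fun f hf => by
    show Ideal.Quotient.mk (RingHom.ker φ) f ∈ l.head.asIdeal
    rw [Ideal.Quotient.eq_zero_iff_mem.2 hf]
    exact zero_mem _
  obtain ⟨P, hP, hPQ⟩ := Ideal.exists_minimalPrimes_le (J := (e l.head).asIdeal) ((ker_orbitHom_le h).trans hQ0)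
  have hPp : P.IsPrime := hP.1.1
  rcases hPQ.eq_or_lt with hPeq | hPlt
  · refine exists_actPt_of_common_minimalPrime hP ⟨⟨hPp, hPeq ▸ hQ0⟩, fun Q hQ hQP => ?_⟩
    exact hP.2 ⟨hQ.1, (ker_orbitHom_le h).trans hQ.2⟩ hQP
  exfalso
  have hd1 : (l.length : WithBot ℕ∞) + 1 ≤ ringKrullDim (R ⧸ P) := by
    rw [ringKrullDim_quotient]
    have hmem : ∀ i, e (l i) ∈ PrimeSpectrum.zeroLocus (P : Set R) := fun i =>
      hPQ.trans ((he.monotone (LTSeries.monotone l (Fin.zero_le i)) : e l.head ≤ e (l i)))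
    let l' : LTSeries (PrimeSpectrum.zeroLocus (P : Set R)) :=
      LTSeries.mk l.length (fun i => ⟨e (l i), hmem i⟩) fun a b hab => he (LTSeries.strictMono l hab)
    have := Order.LTSeries.length_le_krullDim (l'.cons ⟨⟨P, hPp⟩, fun f hf => hf⟩ hPlt)
    refine le_of_eq_of_le ?_ this
    simp [l', RelSeries.cons, RelSeries.append, LTSeries.mk, RelSeries.singleton]
  obtain ⟨q, hq, -, hqP⟩ := Ideal.exists_comap_eq_of_mem_minimalPrimes (GLin.orbitHom k A y).toRingHom (I := ⊥) P
    (by rwa [← RingHom.ker_eq_comap_bot])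
  let ι : R ⧸ P →ₐ[k] A ⧸ q := Ideal.quotientMapₐ q (GLin.orbitHom k A y) (by exact hqP.ge)
  have hι : Function.Injective ι :=
    Ideal.quotientMap_injective' (H := hqP.ge) hqP.le
  obtain ⟨s, hs, hs'⟩ := DimFormula.exists_trdeg_eq_ringKrullDim k (R ⧸ P)
  obtain ⟨t, ht, ht'⟩ := DimFormula.exists_trdeg_eq_ringKrullDim k (A ⧸ q)
  have hd2 : ringKrullDim (R ⧸ P) ≤ ringKrullDim A := by
    refine le_trans ?_ (ringKrullDim_le_of_surjective _ Ideal.Quotient.mk_surjective : ringKrullDim (A ⧸ q) ≤ _)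
    rw [hs', ht']
    have := trdeg_le_of_injective ι hι
    rw [hs, ht] at this
    exact_mod_cast this
  have hd3 : ringKrullDim A ≤ (l.length : WithBot ℕ∞) := by
    rw [← GLinFree.height_eq_ringKrullDim_hopf (k := k) m]
    exact_mod_cast hh.trans hlen.ge
  have hd4 := (hd1.trans hd2).trans hd3
  norm_cast at hd4
  exact absurd hd4 (Nat.not_succ_le_self _)

/-- Closedness of an orbit can be tested on rational points. -/
theorem isClosedOrbit_of_points {x : R →ₐ[k] k}
    (h : ∀ z, GLin.InOrbitClosure k A x z → ∃ g : A →ₐ[k] k, z = GLin.actPt k g x) :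
    GLin.IsClosedOrbit k A x := by
  classical
  haveI : IsNoetherianRing R := Algebra.FiniteType.isNoetherianRing k R
  haveI : IsJacobsonRing R := isJacobsonRing_of_finiteType (A := k)
  let φ := (GLin.orbitHom k A x).toRingHom
  have hfp : φ.FinitePresentation := by
    refine RingHom.FinitePresentation.of_finiteType.1 (RingHom.FiniteType.of_comp_finiteType (f := algebraMap k R) ?_)
    rw [show φ.comp (algebraMap k R) = algebraMap k A from RingHom.ext (GLin.orbitHom k A x).commutes]
    exact RingHom.finiteType_algebraMap.2 inferInstance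
  suffices hsub : PrimeSpectrum.zeroLocus (RingHom.ker φ : Set R) ⊆ Set.range (PrimeSpectrum.comap φ) by
    have e : Set.range (PrimeSpectrum.comap φ) = PrimeSpectrum.zeroLocus (RingHom.ker φ : Set R) := by
      refine subset_antisymm ?_ hsub
      rw [← PrimeSpectrum.closure_range_comap]
      exact subset_closure
    show IsClosed (Set.range (PrimeSpectrum.comap φ))
    rw [e]
    exact PrimeSpectrum.isClosed_zeroLocus _
  obtain ⟨S, hS⟩ := PrimeSpectrum.exists_constructibleSetData_iff.2
    (PrimeSpectrum.isConstructible_range_comap hfp).compl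
  intro q hq
  by_contra hq'
  have hqS : q ∈ S.toSet := hS.ge hq'
  obtain ⟨C, hC, hqC⟩ := Set.mem_iUnion₂.1 hqS
  obtain ⟨M, ⟨hMC, hMV⟩, hMc⟩ := nonempty_inter_closedPoints
    (Z := C.toSet ∩ PrimeSpectrum.zeroLocus (RingHom.ker φ : Set R)) ⟨q, hqC, hq⟩
    (((PrimeSpectrum.isClosed_zeroLocus _).isLocallyClosed.inter
      (PrimeSpectrum.isClosed_zeroLocus _).isOpen_compl.isLocallyClosed).inter
        (PrimeSpectrum.isClosed_zeroLocus _).isLocallyClosed)
  haveI := (PrimeSpectrum.isClosed_singleton_iff_isMaximal M).1 hMc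
  obtain ⟨z, hz⟩ := GLinFree.exists_point_of_maximal (k := k) M.asIdeal
  obtain ⟨g, rfl⟩ := h z (le_of_le_of_eq (hMV : (RingHom.ker φ : Set R) ⊆ M.asIdeal) hz.symm)
  have hmem : M ∈ S.toSet := Set.mem_iUnion₂.2 ⟨C, hC, hMC⟩
  rw [hS] at hmem
  exact hmem ⟨⟨RingHom.ker g, RingHom.ker_isPrime _⟩, PrimeSpectrum.ext hz⟩

/-- Finiteness of stabilisers is open, in the form used to separate: some function is nonzero at the point and
nonzero only at points with finite stabilisers. -/
theorem exists_nbhd_finite_stab {z : R →ₐ[k] k} (hz : GLin.HasFiniteStab k A z) :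
    ∃ f : R, z f ≠ 0 ∧ ∀ z' : R →ₐ[k] k, z' f ≠ 0 → GLin.HasFiniteStab k A z' := by
  classical
  let J : Ideal (R ⊗[k] A) :=
    Ideal.span (Set.range fun f : R => GLin.coactAlgHom k A R f - f ⊗ₜ[k] (1 : A))
  let S := (R ⊗[k] A) ⧸ J
  let mkJ : R ⊗[k] A →ₐ[k] S := Ideal.Quotient.mkₐ k J
  have hkill : ∀ {B : Type u} [CommRing B] [Algebra k B] (ψ : R ⊗[k] A →ₐ[k] B),
      (∀ f : R, ψ (GLin.coactAlgHom k A R f) = ψ (f ⊗ₜ[k] 1)) → ∀ t ∈ J, ψ t = 0 := by
    intro B _ _ ψ hψ t ht
    refine (Ideal.span_le.2 ?_ : J ≤ RingHom.ker ψ) ht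
    rintro _ ⟨f, rfl⟩
    show ψ _ = 0
    rw [map_sub, hψ, sub_self]
  let eR : R ⊗[k] A →ₐ[k] R :=
    (Algebra.TensorProduct.rid k k R).toAlgHom.comp
      (Algebra.TensorProduct.map (AlgHom.id k R) (Bialgebra.counitAlgHom k A))
  have heR : ∀ f : R, eR (GLin.coactAlgHom k A R f) = f := by
    intro f
    have h0 : ∀ t : R ⊗[k] A, eR t = TensorProduct.rid k R (Coalgebra.counit.lTensor R t) := fun t => by
      induction t using TensorProduct.induction_on with
      | zero => simp
      | tmul a b => simp [eR]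
      | add a b ha hb => simp only [map_add, ha, hb]
    rw [h0, GLin.coactAlgHom_apply,
      show Coalgebra.counit.lTensor R (HopfRep.Comod.coact (k := k) (A := A) f) = f ⊗ₜ (1 : k) from
        LinearMap.congr_fun HopfRep.Comod.counit_comp f, TensorProduct.rid_tmul, one_smul]
  let eS : S →ₐ[k] R := Ideal.Quotient.liftₐ J eR (hkill eR fun f => by rw [heR]; simp [eR])
  let pr : (z : R →ₐ[k] k) → R ⊗[k] A →ₐ[k] A ⧸ GLin.stabIdeal k A z := fun z =>
    (Ideal.Quotient.mkₐ k _).comp ((Algebra.TensorProduct.lid k A).toAlgHom.comp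
      (Algebra.TensorProduct.map z (AlgHom.id k A)))
  have hpr : ∀ (z : R →ₐ[k] k) (f : R), pr z (GLin.coactAlgHom k A R f) = pr z (f ⊗ₜ[k] 1) := by
    intro z f
    show Ideal.Quotient.mk _ (GLin.orbitHom k A z f) = Ideal.Quotient.mk _ _
    rw [Ideal.Quotient.eq]
    have hmem : GLin.orbitHom k A z (f - algebraMap k R (z f)) ∈ GLin.stabIdeal k A z :=
      Ideal.mem_map_of_mem _ (by simp [RingHom.mem_ker])
    simpa [Algebra.smul_def] using hmem
  let π : (z : R →ₐ[k] k) → S →ₐ[k] A ⧸ GLin.stabIdeal k A z := fun z => Ideal.Quotient.liftₐ J (pr z) (hkill _ (hpr z))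
  have hπmk : ∀ z t, π z (mkJ t) = pr z t := fun _ _ => rfl
  have heSmk : ∀ t, eS (mkJ t) = eR t := fun _ => rfl
  have hπs : ∀ z, Function.Surjective (π z) := by
    intro z a
    obtain ⟨a, rfl⟩ := Ideal.Quotient.mk_surjective a
    exact ⟨mkJ (1 ⊗ₜ[k] a), by rw [hπmk]; simp [pr]⟩
  letI : Algebra R S := inferInstance
  have halg : ∀ f : R, algebraMap R S f = mkJ (f ⊗ₜ[k] 1) := fun _ => rfl
  have hker : ∀ (z : R →ₐ[k] k) (s : S), π z s = 0 → s ∈ (RingHom.ker z).map (algebraMap R S) := by
    intro z s hs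
    obtain ⟨t, rfl⟩ := Ideal.Quotient.mk_surjective s
    change mkJ t ∈ _
    let L := (Algebra.TensorProduct.lid k A).toAlgHom.comp (Algebra.TensorProduct.map z (AlgHom.id k A))
    have h1 : ∀ t : R ⊗[k] A, mkJ t - mkJ (1 ⊗ₜ[k] L t) ∈ (RingHom.ker z).map (algebraMap R S) := by
      intro t
      induction t using TensorProduct.induction_on with
      | zero => simp
      | tmul f a =>
        have e : f ⊗ₜ[k] a - (1 : R) ⊗ₜ[k] L (f ⊗ₜ[k] a) = ((f - algebraMap k R (z f)) ⊗ₜ[k] (1 : A)) * (1 ⊗ₜ[k] a) := by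
          have e1 : (algebraMap k R (z f)) ⊗ₜ[k] a = (1 : R) ⊗ₜ[k] (algebraMap k A (z f) * a) := by
            rw [Algebra.algebraMap_eq_smul_one, TensorProduct.smul_tmul, Algebra.smul_def]
          simp [L, sub_mul, Algebra.TensorProduct.tmul_mul_tmul, sub_tmul, Algebra.smul_def, e1]
        rw [← map_sub, e, map_mul, ← halg]
        exact Ideal.mul_mem_right _ _ (Ideal.mem_map_of_mem _ (by simp [RingHom.mem_ker]))
      | add a b ha hb =>
        rw [map_add, map_add, TensorProduct.tmul_add, map_add]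
        convert add_mem ha hb using 1
        abel
    have h2 : GLin.stabIdeal k A z ≤ ((RingHom.ker z).map (algebraMap R S)).comap
        (mkJ.comp Algebra.TensorProduct.includeRight).toRingHom := by
      refine Ideal.map_le_iff_le_comap.2 fun f hf => ?_
      show mkJ (1 ⊗ₜ[k] GLin.orbitHom k A z f) ∈ (RingHom.ker z).map (algebraMap R S)
      have e : mkJ (GLin.coactAlgHom k A R f) = algebraMap R S f := by
        rw [halg, ← sub_eq_zero, ← map_sub]
        exact Ideal.Quotient.eq_zero_iff_mem.2 (Ideal.subset_span ⟨f, rfl⟩)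
      have := h1 (GLin.coactAlgHom k A R f)
      rw [e] at this
      have h5 := sub_mem (Ideal.mem_map_of_mem (algebraMap R S) hf) this
      rw [sub_sub_cancel] at h5
      exact h5
    have h3 : L t ∈ GLin.stabIdeal k A z := Ideal.Quotient.eq_zero_iff_mem.1 hs
    have := add_mem (h1 t) (h2 h3 : mkJ (1 ⊗ₜ[k] L t) ∈ _)
    rwa [sub_add_cancel] at this
  -- the primes over a rational point are those of the stabiliser
  have hprimes : ∀ (z : R →ₐ[k] k) (Q : PrimeSpectrum S), Q.asIdeal.comap (algebraMap R S) = RingHom.ker z ↔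
      Q ∈ Set.range (PrimeSpectrum.comap (π z).toRingHom) := by
    intro z Q
    rw [range_comap_of_surjective _ _ (hπs z), PrimeSpectrum.mem_zeroLocus]
    constructor
    · intro h s hs
      exact (Ideal.map_le_iff_le_comap.2 h.ge) (hker z s hs)
    · intro h
      haveI := Q.2
      refine ((RingHom.ker_isMaximal_of_surjective z fun c => ⟨algebraMap k R c, AlgHom.commutes _ c⟩).eq_of_le
        (Ideal.IsPrime.ne_top inferInstance) fun f hf => h ?_).symm
      show π z (algebraMap R S f) = 0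
      rw [halg, hπmk]
      simp [pr, RingHom.mem_ker.1 hf]
  have hfinS : Algebra.FiniteType R S := inferInstance
  let q : PrimeSpectrum S := ⟨RingHom.ker (z.comp eS).toRingHom, RingHom.ker_isPrime _⟩
  have hqz : q.asIdeal.comap (algebraMap R S) = RingHom.ker z := by
    ext f
    show z (eS (algebraMap R S f)) = 0 ↔ z f = 0
    rw [halg, heSmk]
    simp [eR]
  haveI := q.2
  haveI : Algebra.QuasiFiniteAt R q.asIdeal := by
    haveI : Module.Finite k (A ⧸ GLin.stabIdeal k A z) := hz
    haveI : IsArtinianRing (A ⧸ GLin.stabIdeal k A z) := IsArtinianRing.of_finite k _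
    refine Algebra.QuasiFiniteAt.of_isOpen_singleton_fiber q ?_
    have hsub : PrimeSpectrum.comap (algebraMap R S) ⁻¹' {q.comap (algebraMap R S)} ⊆
        Set.range (PrimeSpectrum.comap (π z).toRingHom) := fun Q hQ =>
      (hprimes z Q).1 ((congrArg PrimeSpectrum.asIdeal hQ).trans hqz)
    haveI : Finite (PrimeSpectrum.comap (algebraMap R S) ⁻¹' {q.comap (algebraMap R S)}) :=
      ((Set.finite_range _).subset hsub).to_subtype
    haveI : T1Space (PrimeSpectrum.comap (algebraMap R S) ⁻¹' {q.comap (algebraMap R S)}) := ⟨fun Q => by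
      have hQm : Q.1.asIdeal.IsMaximal := by
        obtain ⟨P, hP⟩ := hsub Q.2
        rw [← hP]
        exact Ideal.comap_isMaximal_of_surjective _ (hπs z) (K := P.asIdeal)
          (H := IsArtinianRing.isMaximal_of_isPrime P.asIdeal)
      rw [show ({Q} : Set _) = Subtype.val ⁻¹' {Q.1} by ext Q'; simp [Subtype.ext_iff]]
      exact ((PrimeSpectrum.isClosed_singleton_iff_isMaximal Q.1).2 hQm).preimage continuous_subtype_val⟩
    exact isOpen_discrete _
  obtain ⟨r, hr, hqf⟩ := Hensel.exists_quasiFinite_away (A := R) q.asIdeal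
  refine ⟨eS r, hr, fun z' hz' => (hasFiniteStab_iff z').2 ?_⟩
  -- the point 1 is isolated in the stabiliser
  let T := A ⧸ GLin.stabIdeal k A z'
  let ε : T →ₐ[k] k := Ideal.Quotient.liftₐ _ (Bialgebra.counitAlgHom k A) (ker_le_counit_stab z')
  have hεmk : ∀ a : A, ε (Ideal.Quotient.mk _ a) = Bialgebra.counitAlgHom k A a := fun _ => rfl
  have hεπ : ∀ s : S, ε (π z' s) = z' (eS s) := by
    have : ε.comp (π z') = z'.comp eS := by
      refine Ideal.Quotient.algHom_ext k (Algebra.TensorProduct.ext (AlgHom.ext fun a => ?_) (AlgHom.ext fun a => ?_))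
      · show ε (π z' (mkJ (a ⊗ₜ[k] 1))) = z' (eS (mkJ (a ⊗ₜ[k] 1)))
        rw [hπmk, heSmk]; simp [pr, eR, hεmk]
      · show ε (π z' (mkJ (1 ⊗ₜ[k] a))) = z' (eS (mkJ (1 ⊗ₜ[k] a)))
        rw [hπmk, heSmk]; simp [pr, eR, hεmk]
    exact DFunLike.congr_fun this
  have hfinP : {P : PrimeSpectrum T | π z' r ∉ P.asIdeal}.Finite := by
    haveI : (RingHom.ker z').IsPrime := RingHom.ker_isPrime z'.toRingHom
    have h1 := (Algebra.QuasiFinite.finite_comap_preimage_singleton (R := R) (S := Localization.Away r)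
      ⟨RingHom.ker z', inferInstance⟩).image (PrimeSpectrum.comap (algebraMap S (Localization.Away r)))
    refine Set.Finite.of_finite_image (f := PrimeSpectrum.comap (π z').toRingHom) (h1.subset ?_)
      (PrimeSpectrum.comap_injective_of_surjective _ (hπs z')).injOn
    rintro _ ⟨P, hP, rfl⟩
    obtain ⟨L, hL⟩ : PrimeSpectrum.comap (π z').toRingHom P ∈
        Set.range (PrimeSpectrum.comap (algebraMap S (Localization.Away r))) := by
      rw [PrimeSpectrum.localization_away_comap_range (Localization.Away r) r]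
      exact hP
    refine ⟨L, PrimeSpectrum.ext ?_, hL⟩
    show L.asIdeal.comap (algebraMap R (Localization.Away r)) = RingHom.ker z'
    rw [IsScalarTower.algebraMap_eq R S (Localization.Away r), ← Ideal.comap_comap]
    refine ((hprimes z' (PrimeSpectrum.comap (algebraMap S (Localization.Away r)) L)).2 ?_)
    rw [hL]
    exact ⟨P, rfl⟩
  haveI : IsJacobsonRing T := isJacobsonRing_of_finiteType (A := k)
  haveI : IsNoetherianRing T := Algebra.FiniteType.isNoetherianRing k T
  let U : Set (PrimeSpectrum T) := PrimeSpectrum.basicOpen (π z' r)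
  let e₀ : PrimeSpectrum T := ⟨RingHom.ker ε.toRingHom, RingHom.ker_isPrime _⟩
  have he₀ : e₀ ∈ U := by
    show π z' r ∉ RingHom.ker ε.toRingHom
    rw [RingHom.mem_ker]
    show ε (π z' r) ≠ 0
    rw [hεπ]; exact hz'
  haveI : Finite U := hfinP.to_subtype
  haveI : JacobsonSpace U :=
    JacobsonSpace.of_isOpenEmbedding (PrimeSpectrum.basicOpen (π z' r)).isOpen.isOpenEmbedding_subtypeVal
  have hopen : IsOpen ({e₀} : Set (PrimeSpectrum T)) := by
    have := (PrimeSpectrum.basicOpen (π z' r)).isOpen.isOpenEmbedding_subtypeVal.isOpenMap _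
      (isOpen_discrete ({⟨e₀, he₀⟩} : Set U))
    rwa [Set.image_singleton] at this
  have hmin : e₀.asIdeal ∈ minimalPrimes T := by
    refine ⟨⟨e₀.2, bot_le⟩, fun Q hQ hle => ?_⟩
    have := hopen.stableUnderGeneralization ((PrimeSpectrum.le_iff_specializes ⟨Q, hQ.1⟩ e₀).1 hle) rfl
    exact (congrArg PrimeSpectrum.asIdeal (Set.mem_singleton_iff.1 this)).ge
  -- translation makes every point isolated
  have htrans : ∀ g ∈ stabSet k A z', ∃ e : T ≃ₐ[k] T, ∀ a : A,
      ε (e (Ideal.Quotient.mk _ a)) = g a := by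
    intro g hg
    have hgen : ∀ (h : A →ₐ[k] k), GLin.actPt k h z' = z' →
        GLin.stabIdeal k A z' ≤ (GLin.stabIdeal k A z').comap (tauLEquiv (toConv h)).toAlgHom.toRingHom := by
      intro h hh
      refine Ideal.map_le_iff_le_comap.2 fun f hf => ?_
      rw [Ideal.mem_comap, Ideal.mem_comap]
      change tauL (toConv h) (GLin.orbitHom k A z' f) ∈ GLin.stabIdeal k A z'
      rw [show tauL (toConv h) (GLin.orbitHom k A z' f) = GLin.orbitHom k A (GLin.actPt k h z') f from
        tauL_orbitHom h z' f, hh]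
      exact Ideal.mem_map_of_mem _ hf
    have hle : (GLin.stabIdeal k A z').map (tauLEquiv (toConv g)).toAlgHom.toRingHom ≤
        GLin.stabIdeal k A z' := Ideal.map_le_iff_le_comap.2 (hgen g hg)
    have heq : GLin.stabIdeal k A z' =
        (GLin.stabIdeal k A z').map (tauLEquiv (toConv g)).toAlgHom.toRingHom := by
      refine le_antisymm (fun a ha => ?_) hle
      have hinv : GLin.actPt k (toConv g)⁻¹.ofConv z' = z' := by
        have h0 := actPt_actPt (toConv g) (toConv g)⁻¹ z'
        rwa [show GLin.actPt k (toConv g).ofConv z' = z' from hg, mul_inv_cancel, actPt_one] at h0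
      have h1 : tauL (toConv g)⁻¹ a ∈ GLin.stabIdeal k A z' := hgen _ hinv ha
      have h2 := Ideal.mem_map_of_mem (tauLEquiv (toConv g)).toAlgHom.toRingHom h1
      have h3 : (tauLEquiv (toConv g)).toAlgHom.toRingHom (tauL (toConv g)⁻¹ a) = a :=
        DFunLike.congr_fun (show (tauL (toConv g)).comp (tauL (toConv g)⁻¹) = AlgHom.id k A by
          rw [tauL_comp, inv_mul_cancel, tauL_one]) a
      rwa [h3] at h2
    refine ⟨Ideal.quotientEquivAlg _ _ (tauLEquiv (toConv g)) heq, fun a => ?_⟩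
    exact counit_tauL g a
  have hallmin : ∀ g ∈ stabSet k A z', GLin.stabIdeal k A z' ≤ RingHom.ker g →
      RingHom.ker g ∈ (GLin.stabIdeal k A z').minimalPrimes := by
    intro g hg hle
    obtain ⟨e, he⟩ := htrans g hg
    haveI : (RingHom.ker g).IsPrime := RingHom.ker_isPrime g.toRingHom
    refine ⟨⟨inferInstance, hle⟩, fun Q hQ hQle => ?_⟩
    haveI := hQ.1
    haveI hQT : (Q.map (Ideal.Quotient.mk (GLin.stabIdeal k A z'))).IsPrime :=
      Ideal.map_isPrime_of_surjective Ideal.Quotient.mk_surjective (by rw [Ideal.mk_ker]; exact hQ.2)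
    let e' : T →+* T := e.symm.toRingEquiv.toRingHom
    have he' : ∀ x, e' (e x) = x := e.symm_apply_apply
    have hmemQ : ∀ a : A, e (Ideal.Quotient.mk _ a) ∈ (Q.map (Ideal.Quotient.mk (GLin.stabIdeal k A z'))).comap e' ↔
        a ∈ Q := by
      intro a
      rw [Ideal.mem_comap, he', Ideal.mem_map_iff_of_surjective _ Ideal.Quotient.mk_surjective]
      refine ⟨?_, fun ha => ⟨a, ha, rfl⟩⟩
      rintro ⟨b, hb, hba⟩
      rw [← sub_add_cancel a b]
      exact add_mem (hQ.2 (Ideal.Quotient.eq.1 hba.symm)) hb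
    have hle' : (Q.map (Ideal.Quotient.mk (GLin.stabIdeal k A z'))).comap e' ≤ e₀.asIdeal := by
      intro t ht
      obtain ⟨t, rfl⟩ := e.surjective t
      obtain ⟨a, rfl⟩ := Ideal.Quotient.mk_surjective t
      show ε _ = 0
      rw [he]
      exact RingHom.mem_ker.1 (hQle ((hmemQ a).1 ht))
    have hge := hmin.2 ⟨Ideal.comap_isPrime _ _, bot_le⟩ hle'
    intro a ha
    refine (hmemQ a).1 (hge ?_)
    show ε _ = 0
    rw [he]; exact ha
  haveI : IsNoetherianRing A := Algebra.FiniteType.isNoetherianRing k A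
  refine Set.Finite.of_finite_image (f := fun g : A →ₐ[k] k => RingHom.ker g)
    ((GLin.stabIdeal k A z').finite_minimalPrimes_of_isNoetherianRing.subset ?_) ?_
  · rintro _ ⟨g, hg, rfl⟩
    exact hallmin g hg (stabIdeal_le_ker_iff.2 hg)
  · exact fun g _ g' _ h => GLinFree.point_ext h.le

end Groth.Agent.GLRed
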